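import Mathlib
import Groth.Prelude.Def_RegImm
import Groth.Agent.Lib.lead.DimFibreStrata
import Groth.Agent.Lib.lead.QFRelDim
import Groth.Agent.Lib.Helper24.OpenConst.Main4924

/-!
# Fibre-dimension strata and pullback along an immersion (helper24)
-/

set_option autoImplicit false
set_option linter.style.haveILetI false
universe u
open scoped Cardinal
open AlgebraicGeometry CategoryTheory CategoryTheory.Limits TopologicalSpace Topology
open Groth.Agent.Lib.Helper24.OpenAt Groth.Agent.Lib.Helper24.OpenConst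

namespace Groth.Agent.Lib.Helper24.CharCyc

variable {C X W : Scheme.{u}}

/-- The dimension of the base change along an immersion is the dimension of the preimage of its
range. -/
theorem dim_pullback_eq (π : C ⟶ X) (ι : W ⟶ X) [IsImmersion ι] :
    topologicalKrullDim ↥(pullback π ι) = topologicalKrullDim ↥(π ⁻¹' Set.range ι : Set C) := by
  have hemb : IsEmbedding (pullback.fst π ι) := (pullback.fst π ι).isEmbedding
  have h1 := hemb.toHomeomorph.isHomeomorph.topologicalKrullDim_eq
  rw [h1, Scheme.Pullback.range_fst]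

/-- The fibres of the base change along an immersion. -/
theorem dim_fiber_pullback_snd (π : C ⟶ X) (ι : W ⟶ X) [IsImmersion ι] (w : W) :
    topologicalKrullDim ↥((pullback.snd π ι).fiber w) = topologicalKrullDim ↥(π.fiber (ι w)) := by
  rw [← dim_preimage_eq, ← dim_preimage_eq]
  have hemb : IsEmbedding (pullback.fst π ι) := (pullback.fst π ι).isEmbedding
  have hcond : ∀ p : ↥(pullback π ι), π (pullback.fst π ι p) = ι (pullback.snd π ι p) := by
    intro p
    have := congrArg (fun h : pullback π ι ⟶ X => h p) (pullback.condition (f := π) (g := ι))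
    exact this
  let ψ : ↥((pullback.snd π ι) ⁻¹' {w}) → ↥(π ⁻¹' {ι w}) := fun p =>
    ⟨pullback.fst π ι p.1, by
      show π (pullback.fst π ι p.1) = ι w
      rw [hcond, show pullback.snd π ι p.1 = w from p.2]⟩
  have hψc : Continuous ψ :=
    Continuous.subtype_mk ((pullback.fst π ι).continuous.comp continuous_subtype_val) _
  have hψ : IsHomeomorph ψ := by
    rw [isHomeomorph_iff_isEmbedding_surjective]
    refine ⟨⟨?_, ?_⟩, ?_⟩
    · refine IsInducing.of_comp hψc continuous_subtype_val ?_
      exact hemb.isInducing.comp IsInducing.subtypeVal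
    · intro a b hab
      apply Subtype.ext
      apply hemb.injective
      exact congrArg (fun c : ↥(π ⁻¹' {ι w}) => c.1) hab
    · rintro ⟨c, hc⟩
      have hc' : π c = ι w := hc
      have hcr : c ∈ Set.range (pullback.fst π ι) := by
        rw [Scheme.Pullback.range_fst]
        exact ⟨w, hc'.symm⟩
      obtain ⟨p, rfl⟩ := hcr
      have hpw : pullback.snd π ι p = w := by
        apply ι.isEmbedding.injective
        rw [← hcond, hc']
      exact ⟨⟨p, hpw⟩, rfl⟩
  exact hψ.topologicalKrullDim_eq

theorem noetherianSpace_of_compact_lft (k : Type u) [Field k] (X : Scheme.{u})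
    (q : X ⟶ Spec (CommRingCat.of k)) [LocallyOfFiniteType q] [CompactSpace X] :
    NoetherianSpace X := by
  haveI : IsLocallyNoetherian X := LocallyOfFiniteType.isLocallyNoetherian q
  haveI : IsNoetherian X := { }
  infer_instance

theorem arith_sub (d : WithBot ℕ∞) (c r : ℕ) :
    d + (c : WithBot ℕ∞) ≤ ((c + r : ℕ) : WithBot ℕ∞) ↔ d ≤ (r : WithBot ℕ∞) := by
  cases d with
  | bot => simp
  | coe a =>
    cases a with
    | top =>
      constructor
      · intro h
        exfalso
        have h1 : ((⊤ : ℕ∞) : WithBot ℕ∞) + ((c : ℕ∞) : WithBot ℕ∞) =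
            (((⊤ : ℕ∞) + (c : ℕ∞) : ℕ∞) : WithBot ℕ∞) := rfl
        have h' : ((⊤ : ℕ∞) : WithBot ℕ∞) + ((c : ℕ∞) : WithBot ℕ∞) ≤
            (((c + r : ℕ) : ℕ∞) : WithBot ℕ∞) := h
        rw [h1, top_add] at h'
        have h3 : (⊤ : ℕ∞) ≤ ((c + r : ℕ) : ℕ∞) := WithBot.coe_le_coe.mp h'
        exact absurd (top_le_iff.mp h3) (ENat.natCast_ne_top _)
      · intro h
        exfalso
        have h' : ((⊤ : ℕ∞) : WithBot ℕ∞) ≤ (((r : ℕ) : ℕ∞) : WithBot ℕ∞) := h
        have h3 : (⊤ : ℕ∞) ≤ ((r : ℕ) : ℕ∞) := WithBot.coe_le_coe.mp h'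
        exact absurd (top_le_iff.mp h3) (ENat.natCast_ne_top _)
    | coe m =>
      constructor
      · intro h
        have h' : m + c ≤ c + r := by exact_mod_cast h
        have : m ≤ r := by omega
        exact_mod_cast this
      · intro h
        have h' : m ≤ r := by exact_mod_cast h
        have : m + c ≤ c + r := by omega
        exact_mod_cast this

theorem eq_bot_of_add_le (x : WithBot ℕ∞) (c n : ℕ) (hcn : n < c)
    (h : x + (c : WithBot ℕ∞) ≤ (n : WithBot ℕ∞)) : x = ⊥ := by
  cases x with
  | bot => rfl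
  | coe a =>
    exfalso
    cases a with
    | top =>
      have h1 : ((⊤ : ℕ∞) : WithBot ℕ∞) + ((c : ℕ∞) : WithBot ℕ∞) =
          (((⊤ : ℕ∞) + (c : ℕ∞) : ℕ∞) : WithBot ℕ∞) := rfl
      have h' : ((⊤ : ℕ∞) : WithBot ℕ∞) + ((c : ℕ∞) : WithBot ℕ∞) ≤
          (((n : ℕ) : ℕ∞) : WithBot ℕ∞) := h
      rw [h1, top_add] at h'
      have h3 : (⊤ : ℕ∞) ≤ ((n : ℕ) : ℕ∞) := WithBot.coe_le_coe.mp h'
      exact absurd (top_le_iff.mp h3) (ENat.natCast_ne_top _)
    | coe m =>
      have h' : m + c ≤ n := by exact_mod_cast h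
      omega

theorem dim_eq_bot_iff_isEmpty (T : Type*) [TopologicalSpace T] :
    topologicalKrullDim T = ⊥ ↔ IsEmpty T := by
  constructor
  · intro h
    by_contra hne
    rw [not_isEmpty_iff] at hne
    have := Groth.Agent.Lib.lead.QFRelDim.topologicalKrullDim_nonneg_of_nonempty T
    rw [h] at this
    simp at this
  · intro h
    unfold topologicalKrullDim
    haveI : IsEmpty (TopologicalSpace.IrreducibleCloseds T) :=
      ⟨fun s => by
        obtain ⟨x, -⟩ := s.isIrreducible.nonempty
        exact isEmptyElim x⟩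
    exact Order.krullDim_eq_bot

theorem main14482 (k : Type u) [Field k] (C X W : Scheme.{u})
    (q : X ⟶ Spec (CommRingCat.of k)) (π : C ⟶ X) (ι : W ⟶ X)
    [LocallyOfFiniteType q] [CompactSpace X] [LocallyOfFiniteType π] [CompactSpace C]
    (n c : ℕ) [IsImmersion ι]
    (hC : ∀ P ∈ irreducibleComponents (C : Type u), topologicalKrullDim P = n)
    (hB : ∀ j : ℕ, IsClosed {x : X | (j : WithBot ℕ∞) ≤ topologicalKrullDim (π.fiber x)}) :
    (∀ j : ℕ, topologicalKrullDim {x : X | (j : WithBot ℕ∞) ≤ topologicalKrullDim (π.fiber x)} +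
        (j : WithBot ℕ∞) ≤ n) ∧
      (topologicalKrullDim (π ⁻¹' Set.range ι : Set C) + (c : WithBot ℕ∞) ≤ n ↔
        ∀ j : ℕ, topologicalKrullDim
          (ι ⁻¹' {x : X | (j : WithBot ℕ∞) ≤ topologicalKrullDim (π.fiber x)} : Set W) +
            (c : WithBot ℕ∞) + (j : WithBot ℕ∞) ≤ n) := by
  haveI : NoetherianSpace X := noetherianSpace_of_compact_lft k X q
  haveI : NoetherianSpace C := noetherianSpace_of_compact_lft k C (π ≫ q)
  haveI : NoetherianSpace W := ι.isEmbedding.isInducing.noetherianSpace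
  haveI : NoetherianSpace ↥(pullback π ι) :=
    (pullback.fst π ι).isEmbedding.isInducing.noetherianSpace
  have S1 := Groth.Agent.Lib.lead.DimFibreStrata.S14480 k C X q π n
  have hCn : topologicalKrullDim C ≤ n :=
    dim_le_of_components C n (fun Z hZ => le_of_eq (hC Z hZ))
  refine ⟨fun j => ?_, ?_⟩
  · have := S1.mp hCn j
    rwa [(hB j).closure_eq] at this
  -- the strata of the base change
  have hset : ∀ j : ℕ, {w : W | (j : WithBot ℕ∞) ≤
      topologicalKrullDim ((pullback.snd π ι).fiber w)} =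
      (ι ⁻¹' {x : X | (j : WithBot ℕ∞) ≤ topologicalKrullDim (π.fiber x)} : Set W) := by
    intro j
    ext w
    simp only [Set.mem_setOf_eq, Set.mem_preimage]
    rw [dim_fiber_pullback_snd]
  have S2 : ∀ r : ℕ, topologicalKrullDim ↥(pullback π ι) ≤ r ↔
      ∀ j : ℕ, topologicalKrullDim
        (ι ⁻¹' {x : X | (j : WithBot ℕ∞) ≤ topologicalKrullDim (π.fiber x)} : Set W) +
          (j : WithBot ℕ∞) ≤ r := by
    intro r
    have := Groth.Agent.Lib.lead.DimFibreStrata.S14480 k (pullback π ι) W (ι ≫ q)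
      (pullback.snd π ι) r
    rw [this]
    refine forall_congr' fun j => ?_
    rw [hset j, ((hB j).preimage ι.continuous).closure_eq]
  rw [← dim_pullback_eq π ι]
  by_cases hcn : c ≤ n
  · obtain ⟨r, rfl⟩ := Nat.exists_eq_add_of_le hcn
    rw [arith_sub, S2 r]
    refine forall_congr' fun j => ?_
    rw [add_right_comm, arith_sub]
  · push_neg at hcn
    constructor
    · intro h j
      have hbot := eq_bot_of_add_le _ c n hcn h
      have hemp : IsEmpty ↥(pullback π ι) := (dim_eq_bot_iff_isEmpty _).mp hbot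
      have : IsEmpty ↥(ι ⁻¹' {x : X | (j : WithBot ℕ∞) ≤ topologicalKrullDim (π.fiber x)} :
          Set W) := by
        constructor
        rintro ⟨w, hw⟩
        have hw' : (j : WithBot ℕ∞) ≤ topologicalKrullDim (π.fiber (ι w)) := hw
        rw [← dim_fiber_pullback_snd π ι w] at hw'
        haveI : IsEmpty ↥((pullback.snd π ι).fiber w) :=
          ⟨fun a => hemp.false ((pullback.snd π ι).fiberι w a)⟩
        rw [(dim_eq_bot_iff_isEmpty _).mpr inferInstance] at hw'
        simp at hw'
      rw [(dim_eq_bot_iff_isEmpty _).mpr this]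
      simp
    · intro h
      have h0 := h 0
      have h0' : topologicalKrullDim
          (ι ⁻¹' {x : X | ((0 : ℕ) : WithBot ℕ∞) ≤ topologicalKrullDim (π.fiber x)} : Set W) +
            (c : WithBot ℕ∞) ≤ n := by
        simpa using h0
      have hbot := eq_bot_of_add_le _ c n hcn h0'
      have hemp := (dim_eq_bot_iff_isEmpty _).mp hbot
      have hP : IsEmpty ↥(pullback π ι) := by
        constructor
        intro p
        apply hemp.false
        refine ⟨pullback.snd π ι p, ?_⟩
        show ((0 : ℕ) : WithBot ℕ∞) ≤ topologicalKrullDim (π.fiber (ι (pullback.snd π ι p)))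
        rw [← dim_fiber_pullback_snd π ι]
        haveI : Nonempty ↥((pullback.snd π ι).fiber (pullback.snd π ι p)) :=
          ⟨(pullback.snd π ι).asFiber p⟩
        exact_mod_cast Groth.Agent.Lib.lead.QFRelDim.topologicalKrullDim_nonneg_of_nonempty _
      rw [(dim_eq_bot_iff_isEmpty _).mpr hP]
      simp

end Groth.Agent.Lib.Helper24.CharCyc
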