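import Mathlib
import Groth.Agent.Lib.lead.VarFibreDimSum
import Groth.Agent.Lib.lead.GenFiniteTFAE
import Groth.Agent.Lib.helper11.ConstrTop
import Groth.Agent.Lib.Helper27.NoethLfp
import Groth.Agent.Lib.Helper24.CharCyc.Main14482

/-!
# Well-intersecting closed subsets and their images (helper24)
-/

set_option autoImplicit false
set_option linter.style.haveILetI false
universe u
open scoped Cardinal
open AlgebraicGeometry CategoryTheory CategoryTheory.Limits TopologicalSpace Topology
open Groth.Agent.Lib.Helper24 Groth.Agent.Lib.lead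

namespace Groth.Agent.Lib.Helper24.CharCyc

/-- additivity of the dimension of point closures, with explicit structure maps -/
theorem dim_closure_eq_add' (k : Type u) [Field k] {X Y : Scheme.{u}}
    (q : Y ⟶ Spec (CommRingCat.of k)) [LocallyOfFiniteType q] (f : X ⟶ Y)
    [LocallyOfFiniteType f] (x : X) :
    topologicalKrullDim ↥(closure ({x} : Set X)) =
      topologicalKrullDim ↥(closure ({f x} : Set Y)) +
        ((FibreDim.tr f x : ℕ) : WithBot ℕ∞) := by
  letI : Y.Over (Spec (CommRingCat.of k)) := ⟨q⟩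
  letI : X.Over (Spec (CommRingCat.of k)) := ⟨f ≫ q⟩
  haveI : LocallyOfFiniteType (Y ↘ Spec (CommRingCat.of k)) := ‹LocallyOfFiniteType q›
  haveI : LocallyOfFiniteType (X ↘ Spec (CommRingCat.of k)) :=
    inferInstanceAs (LocallyOfFiniteType (f ≫ q))
  exact VarFibreDimSum.dim_closure_eq_add k f rfl x

/-- an open immersion does not change the dimension of point closures -/
theorem dim_closure_openImmersion (k : Type u) [Field k] {W Y : Scheme.{u}}
    (q : Y ⟶ Spec (CommRingCat.of k)) [LocallyOfFiniteType q] (ι : W ⟶ Y)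
    [IsOpenImmersion ι] (w : W) :
    topologicalKrullDim ↥(closure ({w} : Set W)) =
      topologicalKrullDim ↥(closure ({ι w} : Set Y)) := by
  rw [dim_closure_eq_add' k q ι w,
    GenFiniteTFAE.tr_eq_zero_of_quasiFiniteAt ι w (ι.quasiFiniteAt w)]
  simp

theorem exists_nat_dim_closure (k : Type u) [Field k] {X : Scheme.{u}}
    (q : X ⟶ Spec (CommRingCat.of k)) [LocallyOfFiniteType q] (x : X) :
    ∃ n : ℕ, topologicalKrullDim ↥(closure ({x} : Set X)) = n := by
  letI : X.Over (Spec (CommRingCat.of k)) := ⟨q⟩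
  haveI : LocallyOfFiniteType (X ↘ Spec (CommRingCat.of k)) := ‹LocallyOfFiniteType q›
  obtain ⟨n, -, hn⟩ := Groth.Agent.Lib.Helper7.VarDim.exists_nat_dim_closure_eq k X x
  exact ⟨n, hn⟩

/-- a constructible set dense in an irreducible closed set contains the generic point -/
theorem mem_of_dense_constructible {T : Type*} [TopologicalSpace T] {E : Set T}
    (hE : IsConstructible E) (τ : T) (hd : τ ∈ closure (E ∩ closure {τ})) : τ ∈ E := by
  have hTi : IsIrreducible (closure ({τ} : Set T)) := isIrreducible_singleton.closure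
  have hd' : closure ({τ} : Set T) ⊆ closure (E ∩ closure {τ}) :=
    isClosed_closure.closure_subset_iff.2 (Set.singleton_subset_iff.2 hd)
  obtain ⟨U, hU, hne, hUE⟩ := Groth.Agent.Lib.helper11.ConstrTop.exists_open_of_dense hE hTi hd'
  have hgen : IsGenericPoint τ (closure ({τ} : Set T)) := rfl
  have hτU : τ ∈ U :=
    Groth.Agent.Lib.helper11.ConstrTop.genericPoint_mem_of_inter_nonempty hgen hU hne
  exact hUE ⟨hτU, subset_closure rfl⟩

theorem arith14484 (e s y z : WithBot ℕ∞) (n m : ℕ) (hy : y = n) (hz : z = m)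
    (h1 : e + s ≤ y + z) (h2 : z < s) (h3 : y ≤ e) : False := by
  subst hy hz
  have h4 : (n : WithBot ℕ∞) + s ≤ (n : WithBot ℕ∞) + (m : WithBot ℕ∞) :=
    (add_le_add_left h3 s).trans h1
  cases s with
  | bot => simp at h2
  | coe a =>
    cases a with
    | top =>
      have h1' : ((n : ℕ∞) : WithBot ℕ∞) + ((⊤ : ℕ∞) : WithBot ℕ∞) =
          (((n : ℕ∞) + (⊤ : ℕ∞) : ℕ∞) : WithBot ℕ∞) := rfl
      have h4' : ((n : ℕ∞) : WithBot ℕ∞) + ((⊤ : ℕ∞) : WithBot ℕ∞) ≤
          (((n + m : ℕ) : ℕ∞) : WithBot ℕ∞) := by exact_mod_cast h4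
      rw [h1', add_top] at h4'
      have h5 : (⊤ : ℕ∞) ≤ ((n + m : ℕ) : ℕ∞) := WithBot.coe_le_coe.mp h4'
      exact absurd (top_le_iff.mp h5) (ENat.natCast_ne_top _)
    | coe a =>
      have h4' : n + a ≤ n + m := by exact_mod_cast h4
      have h2' : m < a := by exact_mod_cast h2
      omega

theorem main14484 (k : Type u) [Field k] (X S : Scheme.{u})
    (q : S ⟶ Spec (CommRingCat.of k)) (f : X ⟶ S)
    [LocallyOfFiniteType q] [CompactSpace S] [LocallyOfFiniteType f] [CompactSpace X]
    [IsSeparated f]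
    (Y Z : Set X) (hYc : IsClosed Y) (hYi : IsIrreducible Y) (hZc : IsClosed Z)
    (hZi : IsIrreducible Z)
    (hWI : topologicalKrullDim {p : ↥(pullback f f) | pullback.fst f f p ∈ Y ∧
      pullback.snd f f p ∈ Z ∧ p ∉ Set.range (pullback.diagonal f)} + topologicalKrullDim S ≤
        topologicalKrullDim Y + topologicalKrullDim Z)
    (hZS : topologicalKrullDim Z < topologicalKrullDim S)
    (hYZ : ¬ Y ⊆ Z) :
    ¬ (f.base '' Y ⊆ closure (f.base '' Y ∩ f.base '' Z)) ∧ ¬ (f.base '' Y ⊆ f.base '' Z) := by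
  haveI : IsLocallyNoetherian S := LocallyOfFiniteType.isLocallyNoetherian q
  haveI : IsNoetherian S := { }
  haveI : IsLocallyNoetherian X := LocallyOfFiniteType.isLocallyNoetherian (f ≫ q)
  haveI : IsNoetherian X := { }
  haveI : LocallyOfFinitePresentation f :=
    Groth.Agent.Lib.Helper27.NoethLfp.locallyOfFinitePresentation_of_isLocallyNoetherian f
  obtain ⟨η, hη⟩ := QuasiSober.sober hYi hYc
  obtain ⟨ζ, hζ⟩ := QuasiSober.sober hZi hZc
  have hηZ : η ∉ Z := fun h => hYZ (by
    rw [← hη.def]
    exact hZc.closure_subset_iff.2 (Set.singleton_subset_iff.2 h))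
  have key : ¬ (f.base '' Y ⊆ closure (f.base '' Y ∩ f.base '' Z)) := by
    intro hsub
    have hcon : IsConstructible (f.base '' Z) :=
      f.isConstructible_image (Groth.Agent.Lib.helper11.ConstrTop.isConstructible_of_isClosed hZc)
    have hfY : f.base '' Y ⊆ closure ({f η} : Set S) := by
      rw [← hη.def]
      refine (image_closure_subset_closure_image f.continuous).trans ?_
      rw [Set.image_singleton]
    have hτZ : f η ∈ f.base '' Z := by
      apply mem_of_dense_constructible hcon
      refine closure_mono ?_ (hsub ⟨η, hη.mem, rfl⟩)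
      rintro s ⟨hsY, hsZ⟩
      exact ⟨hsZ, hfY hsY⟩
    obtain ⟨z, hzZ, hz⟩ := hτZ
    obtain ⟨e, he1, he2⟩ := Scheme.Pullback.exists_preimage_pullback (f := f) (g := f) η z hz.symm
    have heΔ : e ∉ Set.range (pullback.diagonal f) := by
      rintro ⟨x, rfl⟩
      have h1 : pullback.fst f f (pullback.diagonal f x) = x :=
        congrArg (fun h : X ⟶ X => h x) (pullback.diagonal_fst f)
      have h2 : pullback.snd f f (pullback.diagonal f x) = x :=
        congrArg (fun h : X ⟶ X => h x) (pullback.diagonal_snd f)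
      rw [h1] at he1
      rw [h2] at he2
      exact hηZ (he1 ▸ he2 ▸ hzZ)
    let V : (pullback f f).Opens := ⟨(Set.range (pullback.diagonal f))ᶜ,
      (pullback.diagonal f).isClosedEmbedding.isClosed_range.isOpen_compl⟩
    have heV : e ∈ V := heΔ
    let e' : V.toScheme := ⟨e, heV⟩
    have hdimV := dim_closure_openImmersion k (pullback.fst f f ≫ f ≫ q) V.ι e'
    have hdimP := dim_closure_eq_add' k (f ≫ q) (pullback.fst f f) e
    have hιe : V.ι e' = e := rfl
    rw [hιe] at hdimV
    rw [he1] at hdimP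
    have hcl : ∀ v : V.toScheme, v ∈ closure ({e'} : Set V.toScheme) →
        V.ι v ∈ {p : ↥(pullback f f) | pullback.fst f f p ∈ Y ∧
          pullback.snd f f p ∈ Z ∧ p ∉ Set.range (pullback.diagonal f)} := by
      intro v hv
      have h1 : V.ι v ∈ closure ({e} : Set ↥(pullback f f)) := by
        have := image_closure_subset_closure_image V.ι.continuous ⟨v, hv, rfl⟩
        rwa [Set.image_singleton] at this
      refine ⟨?_, ?_, v.2⟩
      · have hc : IsClosed ((pullback.fst f f) ⁻¹' Y) :=
          hYc.preimage (pullback.fst f f).continuous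
        refine hc.closure_subset_iff.2 (Set.singleton_subset_iff.2 ?_) h1
        show pullback.fst f f e ∈ Y
        rw [he1]
        exact hη.mem
      · have hc : IsClosed ((pullback.snd f f) ⁻¹' Z) :=
          hZc.preimage (pullback.snd f f).continuous
        refine hc.closure_subset_iff.2 (Set.singleton_subset_iff.2 ?_) h1
        show pullback.snd f f e ∈ Z
        rw [he2]
        exact hzZ
    let φ : ↥(closure ({e'} : Set V.toScheme)) → ↥{p : ↥(pullback f f) |
        pullback.fst f f p ∈ Y ∧ pullback.snd f f p ∈ Z ∧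
          p ∉ Set.range (pullback.diagonal f)} := fun v => ⟨V.ι v.1, hcl v.1 v.2⟩
    have hφc : Continuous φ :=
      Continuous.subtype_mk (V.ι.continuous.comp continuous_subtype_val) _
    have hφ : IsInducing φ := by
      refine IsInducing.of_comp hφc continuous_subtype_val ?_
      exact V.ι.isEmbedding.isInducing.comp IsInducing.subtypeVal
    have hle := hφ.topologicalKrullDim_le
    obtain ⟨n, hn⟩ := exists_nat_dim_closure k (f ≫ q) η
    obtain ⟨m, hm⟩ := exists_nat_dim_closure k (f ≫ q) ζ
    have hYdim : topologicalKrullDim ↥Y = n := by rw [← hη.def]; exact hn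
    have hZdim : topologicalKrullDim ↥Z = m := by rw [← hζ.def]; exact hm
    refine arith14484 _ _ _ _ n m hYdim hZdim hWI hZS ?_
    refine le_trans ?_ hle
    rw [hdimV, hdimP, ← hη.def]
    exact le_add_of_nonneg_right (by exact_mod_cast Nat.zero_le _)
  refine ⟨key, fun h => key ?_⟩
  intro s hs
  exact subset_closure ⟨hs, h hs⟩

end Groth.Agent.Lib.Helper24.CharCyc
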