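import Mathlib
import Groth.Agent.Lib.Helper24.CharCyc.Main14484
import Groth.Agent.Lib.Helper7.TopDimComponents

/-!
# Dimension of locally closed subsets of schemes of finite type over a field (helper24)
-/

set_option autoImplicit false
set_option linter.style.haveILetI false
universe u
open scoped Cardinal
open AlgebraicGeometry CategoryTheory CategoryTheory.Limits TopologicalSpace Topology
open Groth.Agent.Lib.Helper24 Groth.Agent.Lib.lead

namespace Groth.Agent.Lib.Helper24.CharCyc

/-- a locally closed subset of a quasi-sober space is quasi-sober -/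
theorem quasiSober_of_isLocallyClosed {B : Type*} [TopologicalSpace B] [QuasiSober B] {T : Set B}
    (hT : IsLocallyClosed T) : QuasiSober ↥T := by
  obtain ⟨U, C, hU, hC, rfl⟩ := hT
  constructor
  intro S hSi hSc
  have hS1 : IsIrreducible (Subtype.val '' S : Set B) :=
    hSi.image _ continuous_subtype_val.continuousOn
  obtain ⟨x, hx⟩ := QuasiSober.sober hS1.closure isClosed_closure
  have hsubC : closure (Subtype.val '' S : Set B) ⊆ C := by
    apply hC.closure_subset_iff.2
    rintro _ ⟨s, -, rfl⟩
    exact s.2.2
  have hxC : x ∈ C := hsubC hx.mem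
  have hxU : x ∈ U := by
    rw [hx.mem_open_set_iff hU]
    obtain ⟨s, hs⟩ := hSi.nonempty
    exact ⟨s.1, subset_closure ⟨s, hs, rfl⟩, s.2.1⟩
  have hSeq : S = Subtype.val ⁻¹' closure (Subtype.val '' S : Set B) := by
    rw [← IsInducing.subtypeVal.closure_eq_preimage_closure_image, hSc.closure_eq]
  refine ⟨⟨x, hxU, hxC⟩, ?_⟩
  rw [IsGenericPoint, IsInducing.subtypeVal.closure_eq_preimage_closure_image, Set.image_singleton]
  show Subtype.val ⁻¹' closure {x} = S
  rw [hx.def]
  exact hSeq.symm

/-- a bound for the dimensions of the closures of all points bounds the dimension -/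
theorem dim_le_of_forall_closure {B : Type*} [TopologicalSpace B] [QuasiSober B] {T : Set B}
    (hT : IsLocallyClosed T) (n : WithBot ℕ∞)
    (h : ∀ t ∈ T, topologicalKrullDim ↥(closure ({t} : Set B)) ≤ n) :
    topologicalKrullDim ↥T ≤ n := by
  haveI := quasiSober_of_isLocallyClosed hT
  apply Groth.Agent.Lib.Helper7.TopDimComp.topologicalKrullDim_le_of_forall_component
  intro W hW
  obtain ⟨w, hw⟩ := QuasiSober.sober hW.1 (isClosed_of_mem_irreducibleComponents W hW)
  refine le_trans ?_ (h w.1 w.2)
  have hmem : ∀ x : ↥W, x.1.1 ∈ closure ({w.1} : Set B) := by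
    intro x
    have h1 : x.1 ∈ closure ({w} : Set ↥T) := by rw [hw.def]; exact x.2
    have h2 : w ⤳ x.1 := specializes_iff_mem_closure.2 h1
    exact specializes_iff_mem_closure.1 (h2.map continuous_subtype_val)
  let φ : ↥W → ↥(closure ({w.1} : Set B)) := fun x => ⟨x.1.1, hmem x⟩
  have hφc : Continuous φ :=
    Continuous.subtype_mk (continuous_subtype_val.comp continuous_subtype_val) _
  have hφ : IsInducing φ := by
    refine IsInducing.of_comp hφc continuous_subtype_val ?_
    have h3 : IsInducing (fun x : ↥W => (x.1.1 : B)) :=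
      (IsInducing.subtypeVal (t := T)).comp (IsInducing.subtypeVal (t := W))
    exact h3
  exact hφ.topologicalKrullDim_le

/-- in a scheme locally of finite type over a field, the closure of a point of a locally closed
subset has dimension at most that of the subset -/
theorem dim_closure_le_of_mem (k : Type u) [Field k] {B : Scheme.{u}}
    (qB : B ⟶ Spec (CommRingCat.of k)) [LocallyOfFiniteType qB] {T : Set B}
    (hT : IsLocallyClosed T) (t : B) (ht : t ∈ T) :
    topologicalKrullDim ↥(closure ({t} : Set B)) ≤ topologicalKrullDim ↥T := by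
  obtain ⟨U, C, hU, hC, rfl⟩ := hT
  let V : B.Opens := ⟨U, hU⟩
  let t' : V.toScheme := ⟨t, ht.1⟩
  have hdimV := dim_closure_openImmersion k qB V.ι t'
  have hιt : V.ι t' = t := rfl
  rw [hιt] at hdimV
  have hcl : ∀ v : V.toScheme, v ∈ closure ({t'} : Set V.toScheme) → V.ι v ∈ U ∩ C := by
    intro v hv
    have h1 : V.ι v ∈ closure ({t} : Set B) := by
      have := image_closure_subset_closure_image V.ι.continuous ⟨v, hv, rfl⟩
      rwa [Set.image_singleton] at this
    exact ⟨v.2, hC.closure_subset_iff.2 (Set.singleton_subset_iff.2 ht.2) h1⟩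
  let φ : ↥(closure ({t'} : Set V.toScheme)) → ↥(U ∩ C) := fun v => ⟨V.ι v.1, hcl v.1 v.2⟩
  have hφc : Continuous φ :=
    Continuous.subtype_mk (V.ι.continuous.comp continuous_subtype_val) _
  have hφ : IsInducing φ := by
    refine IsInducing.of_comp hφc continuous_subtype_val ?_
    exact V.ι.isEmbedding.isInducing.comp IsInducing.subtypeVal
  rw [← hdimV]
  exact hφ.topologicalKrullDim_le

end Groth.Agent.Lib.Helper24.CharCyc
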