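import Mathlib
import Groth.Agent.Lib.Helper24.CharCyc.Main14484

/-!
# Generic radiciality for self well-intersecting closed subsets (helper24)
-/

set_option autoImplicit false
set_option linter.style.haveILetI false
universe u
open scoped Cardinal
open AlgebraicGeometry CategoryTheory CategoryTheory.Limits TopologicalSpace Topology
open Groth.Agent.Lib.Helper24 Groth.Agent.Lib.lead

namespace Groth.Agent.Lib.Helper24.CharCyc

set_option backward.isDefEq.respectTransparency.types false in
set_option backward.defeqAttrib.useBackward true in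
/-- pointwise version of the diagonal criterion for purely inseparable residue extensions -/
theorem isPurelyInseparable_of_fibre_diagonal {X Y : Scheme.{u}} (f : X ⟶ Y) (x : X)
    (hf : ∀ p : ↥(pullback f f), pullback.fst f f p = x → pullback.snd f f p = x →
      p ∈ Set.range (pullback.diagonal f)) :
    (f.residueFieldMap x).hom.IsPurelyInseparable := by
  algebraize [(f.residueFieldMap x).hom]
  rw [RingHom.IsPurelyInseparable, isPurelyInseparable_iff_subsingleton_emb, subsingleton_iff]
  intro σ₁ σ₂
  apply AlgHom.coe_ringHom_injective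
  let g₁ := (X.SpecToEquivOfField _).symm ⟨_, CommRingCat.ofHom σ₁.toRingHom⟩
  let g₂ := (X.SpecToEquivOfField _).symm ⟨_, CommRingCat.ofHom σ₂.toRingHom⟩
  suffices X.SpecToEquivOfField _ g₁ = X.SpecToEquivOfField _ g₂ by
    rw [Equiv.apply_symm_apply, Equiv.apply_symm_apply] at this
    exact congr($(this).2.hom)
  let q := pullback.lift (f := f) (g := f) g₁ g₂ <| by
    simp only [g₁, g₂, Scheme.SpecToEquivOfField_symm_apply, AlgHom.toRingHom_eq_coe,
      Category.assoc, ← f.SpecMap_residueFieldMap_fromSpecResidueField x, ← Spec.map_comp_assoc]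
    congr 2
    ext a
    simp only [CommRingCat.hom_comp, RingHom.comp_apply]
    exact (AlgHom.commutes σ₁ a).trans (AlgHom.commutes σ₂ a).symm
  have q_fst : q ≫ pullback.fst f f = g₁ := pullback.lift_fst _ _ _
  have q_snd : q ≫ pullback.snd f f = g₂ := pullback.lift_snd _ _ _
  rw [Scheme.SpecToEquivOfField_eq_iff, ← q_fst, ← q_snd]
  have hq1 : pullback.fst f f (q (IsLocalRing.closedPoint _)) = x := by
    rw [← Scheme.Hom.comp_apply]
    simp [Scheme.SpecToEquivOfField_symm_apply, q_fst, g₁]
  have hq2 : pullback.snd f f (q (IsLocalRing.closedPoint _)) = x := by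
    rw [← Scheme.Hom.comp_apply]
    simp [Scheme.SpecToEquivOfField_symm_apply, q_snd, g₂]
  obtain ⟨u, hu⟩ := hf (q (IsLocalRing.closedPoint _)) hq1 hq2
  have hux : u = x := by
    have := congr(pullback.fst f f $(hu))
    rw [← Scheme.Hom.comp_apply, ← Scheme.Hom.comp_apply] at this
    simpa [Scheme.SpecToEquivOfField_symm_apply, q_fst, g₁] using this
  refine ⟨by simp [g₁, g₂, q_fst, q_snd], ?_⟩
  dsimp
  simp only [Scheme.descResidueField_stalkClosedPointTo_comp, ← Category.assoc]
  congr 1
  rw [← cancel_mono (Scheme.residueFieldCongr (hux ▸ hu).symm).hom]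
  have : Mono (Scheme.Hom.residueFieldMap (pullback.diagonal f) x) :=
    ConcreteCategory.mono_of_injective _ (RingHom.injective _)
  simp [← cancel_mono ((pullback.diagonal f).residueFieldMap x), ← Scheme.residueFieldMap_comp,
    (pullback.fst f f).residueFieldMap_congr', (pullback.snd f f).residueFieldMap_congr'_assoc,
    Scheme.Hom.residueFieldMap_congr (pullback.diagonal_snd f),
    Scheme.Hom.residueFieldMap_congr (pullback.diagonal_fst f)]

/-- the dimension of the off-diagonal locus bounds the dimension of the closure of the first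
projection of any of its points -/
theorem dim_closure_fst_le (k : Type u) [Field k] (X S : Scheme.{u})
    (q : S ⟶ Spec (CommRingCat.of k)) (f : X ⟶ S)
    [LocallyOfFiniteType q] [LocallyOfFiniteType f] [IsSeparated f]
    (Y Z : Set X) (hYc : IsClosed Y) (hZc : IsClosed Z) (e : ↥(pullback f f))
    (he : e ∈ {p : ↥(pullback f f) | pullback.fst f f p ∈ Y ∧
      pullback.snd f f p ∈ Z ∧ p ∉ Set.range (pullback.diagonal f)}) :
    topologicalKrullDim ↥(closure ({pullback.fst f f e} : Set X)) ≤
      topologicalKrullDim {p : ↥(pullback f f) | pullback.fst f f p ∈ Y ∧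
        pullback.snd f f p ∈ Z ∧ p ∉ Set.range (pullback.diagonal f)} := by
  obtain ⟨he1, he2, heΔ⟩ := he
  let V : (pullback f f).Opens := ⟨(Set.range (pullback.diagonal f))ᶜ,
    (pullback.diagonal f).isClosedEmbedding.isClosed_range.isOpen_compl⟩
  have heV : e ∈ V := heΔ
  let e' : V.toScheme := ⟨e, heV⟩
  have hdimV := dim_closure_openImmersion k (pullback.fst f f ≫ f ≫ q) V.ι e'
  have hdimP := dim_closure_eq_add' k (f ≫ q) (pullback.fst f f) e
  have hιe : V.ι e' = e := rfl
  rw [hιe] at hdimV
  have hcl : ∀ v : V.toScheme, v ∈ closure ({e'} : Set V.toScheme) →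
      V.ι v ∈ {p : ↥(pullback f f) | pullback.fst f f p ∈ Y ∧
        pullback.snd f f p ∈ Z ∧ p ∉ Set.range (pullback.diagonal f)} := by
    intro v hv
    have h1 : V.ι v ∈ closure ({e} : Set ↥(pullback f f)) := by
      have := image_closure_subset_closure_image V.ι.continuous ⟨v, hv, rfl⟩
      rwa [Set.image_singleton] at this
    refine ⟨?_, ?_, v.2⟩
    · have hc : IsClosed ((pullback.fst f f) ⁻¹' Y) :=
        hYc.preimage (pullback.fst f f).continuous
      exact hc.closure_subset_iff.2 (Set.singleton_subset_iff.2 he1) h1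
    · have hc : IsClosed ((pullback.snd f f) ⁻¹' Z) :=
        hZc.preimage (pullback.snd f f).continuous
      exact hc.closure_subset_iff.2 (Set.singleton_subset_iff.2 he2) h1
  let φ : ↥(closure ({e'} : Set V.toScheme)) → ↥{p : ↥(pullback f f) |
      pullback.fst f f p ∈ Y ∧ pullback.snd f f p ∈ Z ∧
        p ∉ Set.range (pullback.diagonal f)} := fun v => ⟨V.ι v.1, hcl v.1 v.2⟩
  have hφc : Continuous φ :=
    Continuous.subtype_mk (V.ι.continuous.comp continuous_subtype_val) _
  have hφ : IsInducing φ := by
    refine IsInducing.of_comp hφc continuous_subtype_val ?_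
    exact V.ι.isEmbedding.isInducing.comp IsInducing.subtypeVal
  have hle := hφ.topologicalKrullDim_le
  refine le_trans ?_ hle
  rw [hdimV, hdimP]
  exact le_add_of_nonneg_right (by exact_mod_cast Nat.zero_le _)

theorem main14483 (k : Type u) [Field k] (X S : Scheme.{u})
    (q : S ⟶ Spec (CommRingCat.of k)) (f : X ⟶ S)
    [LocallyOfFiniteType q] [CompactSpace S] [LocallyOfFiniteType f] [CompactSpace X]
    [IsSeparated f]
    (Y : Set X) (hYc : IsClosed Y) (hYi : IsIrreducible Y)
    (hWI : topologicalKrullDim {p : ↥(pullback f f) | pullback.fst f f p ∈ Y ∧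
      pullback.snd f f p ∈ Y ∧ p ∉ Set.range (pullback.diagonal f)} + topologicalKrullDim S ≤
        topologicalKrullDim Y + topologicalKrullDim Y)
    (hYS : topologicalKrullDim Y < topologicalKrullDim S) :
    ∃ V : Set X, IsOpen V ∧ (V ∩ Y).Nonempty ∧ Set.InjOn f.base (V ∩ Y) ∧
      ∀ x ∈ V ∩ Y, (f.residueFieldMap x).hom.IsPurelyInseparable := by
  haveI : IsLocallyNoetherian S := LocallyOfFiniteType.isLocallyNoetherian q
  haveI : IsNoetherian S := { }
  haveI : IsLocallyNoetherian X := LocallyOfFiniteType.isLocallyNoetherian (f ≫ q)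
  haveI : IsNoetherian X := { }
  haveI : IsLocallyNoetherian (pullback f f) :=
    LocallyOfFiniteType.isLocallyNoetherian (pullback.fst f f ≫ f ≫ q)
  haveI : QuasiCompact f := inferInstance
  haveI : CompactSpace ↥(pullback f f) :=
    QuasiCompact.compactSpace_of_compactSpace (pullback.fst f f)
  haveI : IsNoetherian (pullback f f) := { }
  haveI : LocallyOfFinitePresentation (pullback.fst f f) :=
    Groth.Agent.Lib.Helper27.NoethLfp.locallyOfFinitePresentation_of_isLocallyNoetherian _
  obtain ⟨η, hη⟩ := QuasiSober.sober hYi hYc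
  set E : Set ↥(pullback f f) := {p : ↥(pullback f f) | pullback.fst f f p ∈ Y ∧
      pullback.snd f f p ∈ Y ∧ p ∉ Set.range (pullback.diagonal f)} with hE
  have hEcon : IsConstructible E := by
    have h1 : IsConstructible ((pullback.fst f f) ⁻¹' Y : Set ↥(pullback f f)) :=
      Groth.Agent.Lib.helper11.ConstrTop.isConstructible_of_isClosed
        (hYc.preimage (pullback.fst f f).continuous)
    have h2 : IsConstructible ((pullback.snd f f) ⁻¹' Y : Set ↥(pullback f f)) :=
      Groth.Agent.Lib.helper11.ConstrTop.isConstructible_of_isClosed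
        (hYc.preimage (pullback.snd f f).continuous)
    have h3 : IsConstructible ((Set.range (pullback.diagonal f))ᶜ : Set ↥(pullback f f)) :=
      Groth.Agent.Lib.helper11.ConstrTop.isConstructible_of_isOpen
        (pullback.diagonal f).isClosedEmbedding.isClosed_range.isOpen_compl
    have : E = ((pullback.fst f f) ⁻¹' Y) ∩ (((pullback.snd f f) ⁻¹' Y) ∩
        (Set.range (pullback.diagonal f))ᶜ) := by
      ext p; rfl
    rw [this]
    exact h1.inter (h2.inter h3)
  have himcon : IsConstructible ((pullback.fst f f) '' E) :=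
    (pullback.fst f f).isConstructible_image hEcon
  have himY : (pullback.fst f f) '' E ⊆ Y := by
    rintro _ ⟨p, hp, rfl⟩
    exact hp.1
  -- the generic point is not in the image
  have hηE : η ∉ (pullback.fst f f) '' E := by
    rintro ⟨e, heE, he1⟩
    have hle := dim_closure_fst_le k X S q f Y Y hYc hYc e heE
    rw [he1, hη.def] at hle
    obtain ⟨n, hn⟩ := exists_nat_dim_closure k (f ≫ q) η
    have hYdim : topologicalKrullDim ↥Y = n := by rw [← hη.def]; exact hn
    exact arith14484 _ _ _ _ n n hYdim hYdim hWI hYS hle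
  have hnd : η ∉ closure ((pullback.fst f f) '' E) := by
    intro hcl
    apply hηE
    apply mem_of_dense_constructible himcon
    refine closure_mono ?_ hcl
    intro s hs
    refine ⟨hs, ?_⟩
    rw [hη.def]
    exact himY hs
  refine ⟨(closure ((pullback.fst f f) '' E))ᶜ, isClosed_closure.isOpen_compl,
    ⟨η, hnd, hη.mem⟩, ?_, ?_⟩
  · rintro x ⟨hxV, hxY⟩ x' ⟨hxV', hxY'⟩ hxx
    by_contra hne
    obtain ⟨p, hp1, hp2⟩ :=
      Scheme.Pullback.exists_preimage_pullback (f := f) (g := f) x x' hxx
    apply hxV
    apply subset_closure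
    refine ⟨p, ⟨by rw [hp1]; exact hxY, by rw [hp2]; exact hxY', ?_⟩, hp1⟩
    rintro ⟨t, rfl⟩
    have h1 : pullback.fst f f (pullback.diagonal f t) = t :=
      congrArg (fun h : X ⟶ X => h t) (pullback.diagonal_fst f)
    have h2 : pullback.snd f f (pullback.diagonal f t) = t :=
      congrArg (fun h : X ⟶ X => h t) (pullback.diagonal_snd f)
    rw [h1] at hp1
    rw [h2] at hp2
    exact hne (hp1.symm.trans hp2)
  · rintro x ⟨hxV, hxY⟩
    apply isPurelyInseparable_of_fibre_diagonal
    intro p hp1 hp2
    by_contra hpΔ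
    apply hxV
    apply subset_closure
    exact ⟨p, ⟨by rw [hp1]; exact hxY, by rw [hp2]; exact hxY, hpΔ⟩, hp1⟩

end Groth.Agent.Lib.Helper24.CharCyc
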