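import Mathlib
import Groth.Agent.Lib.Helper24.CharCyc.LocClosedDim
import Groth.Agent.Lib.lead.FibreDimBCLocal
import Groth.Agent.Lib.Helper21.TopDim

/-!
# Dimension of preimages under base changes of morphisms with fibres of constant dimension
(helper24)
-/

set_option autoImplicit false
set_option linter.style.haveILetI false
universe u
open scoped Cardinal
open AlgebraicGeometry CategoryTheory CategoryTheory.Limits TopologicalSpace Topology
open Groth.Agent.Lib.Helper24 Groth.Agent.Lib.lead

namespace Groth.Agent.Lib.Helper24.CharCyc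

theorem exists_sub (M : WithBot ℕ∞) (d : ℕ) :
    ∃ r : WithBot ℕ∞, ∀ y : WithBot ℕ∞, y + (d : WithBot ℕ∞) ≤ M ↔ y ≤ r := by
  cases M with
  | bot =>
    refine ⟨⊥, fun y => ?_⟩
    cases y with
    | bot => simp
    | coe a =>
      constructor
      · intro h
        exfalso
        have h' : ((a + (d : ℕ∞) : ℕ∞) : WithBot ℕ∞) ≤ ⊥ := h
        simp at h'
      · intro h
        simp at h
  | coe M =>
    cases M with
    | top =>
      refine ⟨⊤, fun y => ?_⟩
      constructor
      · intro _; exact le_top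
      · intro _; exact le_top
    | coe m =>
      by_cases hdm : d ≤ m
      · obtain ⟨r, rfl⟩ := Nat.exists_eq_add_of_le hdm
        exact ⟨(r : ℕ), fun y => arith_sub y d r⟩
      · push_neg at hdm
        refine ⟨⊥, fun y => ?_⟩
        constructor
        · intro h
          exact le_of_eq (eq_bot_of_add_le y d m hdm h)
        · intro h
          rw [le_bot_iff.mp h]
          simp

theorem add_nat_le_add_nat_iff (a b : WithBot ℕ∞) (d : ℕ) :
    a + (d : WithBot ℕ∞) ≤ b + (d : WithBot ℕ∞) ↔ a ≤ b := by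
  obtain ⟨r, hr⟩ := exists_sub (b + (d : WithBot ℕ∞)) d
  have h1 : b ≤ r := (hr b).mp le_rfl
  constructor
  · intro h
    cases a with
    | bot => exact bot_le
    | coe a =>
      cases b with
      | bot =>
        exfalso
        have h' : ((a + (d : ℕ∞) : ℕ∞) : WithBot ℕ∞) ≤ ⊥ := by simpa using h
        simp at h'
      | coe b =>
        have h' : ((a + (d : ℕ∞) : ℕ∞) : WithBot ℕ∞) ≤ ((b + (d : ℕ∞) : ℕ∞) : WithBot ℕ∞) := h
        have h2 : a + (d : ℕ∞) ≤ b + (d : ℕ∞) := WithBot.coe_le_coe.mp h'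
        have h3 : a ≤ b := (ENat.add_le_add_iff_right (ENat.natCast_ne_top d)).mp h2
        exact WithBot.coe_le_coe.mpr h3
  · intro h
    exact add_le_add_left h _

theorem fibreDimAt_le_of_dim_fiber {S' S : Scheme.{u}} (g : S' ⟶ S) (d : ℕ)
    (hd : ∀ s : S, topologicalKrullDim (g.fiber s) = d) (s' : S') :
    FlatMor.fibreDimAt g s' ≤ d := by
  rw [← hd (g s')]
  unfold FlatMor.fibreDimAt
  exact Groth.Agent.Lib.Helper21.TopDim.localDim_le _

/-- Preimages of locally closed sets under a base change of a surjective morphism all of whose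
fibres have dimension `d`: the dimension goes up by `d`. -/
theorem dim_preimage_eq_add (k : Type u) [Field k] {A A' S S' : Scheme.{u}}
    (qS : S ⟶ Spec (CommRingCat.of k)) [LocallyOfFiniteType qS]
    (g : S' ⟶ S) [LocallyOfFiniteType g] (d : ℕ)
    (hd : ∀ s : S, topologicalKrullDim (g.fiber s) = d)
    (a : A ⟶ S) [LocallyOfFiniteType a] (a' : A' ⟶ S') (h : A' ⟶ A)
    (hsq : IsPullback a' h g a) (T : Set A) (hT : IsLocallyClosed T) :
    topologicalKrullDim ↥(h ⁻¹' T) = topologicalKrullDim ↥T + (d : WithBot ℕ∞) := by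
  haveI : LocallyOfFiniteType h := MorphismProperty.of_isPullback hsq inferInstance
  have hT' : IsLocallyClosed (h ⁻¹' T) := hT.preimage h.continuous
  have hbc := Groth.Agent.Lib.lead.FibreDimBCLocal.fibreDimAt_baseChange g a a' h hsq
  have htr : ∀ t' : A', ((FibreDim.tr h t' : ℕ) : WithBot ℕ∞) ≤ d := by
    intro t'
    refine (FibreDim.tr_le_fibreDimAt h (specializes_rfl) rfl).trans ?_
    rw [hbc t']
    exact fibreDimAt_le_of_dim_fiber g d hd _
  apply le_antisymm
  · apply dim_le_of_forall_closure hT'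
    intro t' ht'
    rw [dim_closure_eq_add' k (a ≫ qS) h t']
    exact add_le_add (dim_closure_le_of_mem k (a ≫ qS) hT (h t') ht') (htr t')
  · obtain ⟨r, hr⟩ := exists_sub (topologicalKrullDim ↥(h ⁻¹' T)) d
    rw [hr]
    apply dim_le_of_forall_closure hT
    intro t ht
    rw [← hr]
    -- a point of the fibre of `g` with maximal local dimension
    have h1 : ((d : ℕ) : WithBot ℕ∞) ≤ topologicalKrullDim ↥(g.fiber (a t)) := le_of_eq (hd _).symm
    rw [Groth.Agent.Lib.lead.FibreDimTarget.le_dim_fibre_iff] at h1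
    obtain ⟨s', hs', hds'⟩ := h1
    obtain ⟨z, hz1, hz2⟩ := Scheme.Pullback.exists_preimage_pullback (f := g) (g := a) s' t hs'
    set x' : A' := hsq.isoPullback.inv z with hx'
    have hx1 : a' x' = s' := by
      rw [← hz1, hx', ← Scheme.Hom.comp_apply, hsq.isoPullback_inv_fst]
    have hx2 : h x' = t := by
      rw [← hz2, hx', ← Scheme.Hom.comp_apply, hsq.isoPullback_inv_snd]
    obtain ⟨z', hz'1, -, -, hz'4⟩ := FibreDim.exists_max_tr h x'
    rw [hbc x', hx1] at hz'4
    have hz't : h z' = t := hz'1.trans hx2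
    have hmem : z' ∈ h ⁻¹' T := by
      show h z' ∈ T
      rw [hz't]; exact ht
    refine le_trans ?_ (dim_closure_le_of_mem k (h ≫ a ≫ qS) hT' z' hmem)
    rw [dim_closure_eq_add' k (a ≫ qS) h z', hz't]
    exact add_le_add_right (hds'.trans (le_of_eq hz'4.symm)) _

end Groth.Agent.Lib.Helper24.CharCyc
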