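import Mathlib
import Groth.Agent.Lib.Helper24.CharCyc.PreimageDim

/-!
# Well-intersection and base change with fibres of constant dimension (helper24)
-/

set_option autoImplicit false
set_option linter.style.haveILetI false
universe u
open scoped Cardinal
open AlgebraicGeometry CategoryTheory CategoryTheory.Limits TopologicalSpace Topology
open Groth.Agent.Lib.Helper24 Groth.Agent.Lib.lead

namespace Groth.Agent.Lib.Helper24.CharCyc

theorem range_fst_of_isPullback {P X Y Z : Scheme.{u}} {fst : P ⟶ X} {snd : P ⟶ Y} {f : X ⟶ Z}
    {g : Y ⟶ Z} (h : IsPullback fst snd f g) : Set.range fst = f ⁻¹' Set.range g := by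
  rw [← Scheme.Pullback.range_fst]
  ext x
  constructor
  · rintro ⟨p, rfl⟩
    refine ⟨h.isoPullback.hom p, ?_⟩
    rw [← Scheme.Hom.comp_apply, h.isoPullback_hom_fst]
  · rintro ⟨z, rfl⟩
    refine ⟨h.isoPullback.inv z, ?_⟩
    rw [← Scheme.Hom.comp_apply, h.isoPullback_inv_fst]

section

variable {X S S' : Scheme.{u}} (f : X ⟶ S) (g : S' ⟶ S)

/-- the comparison map between the self fibre products -/
noncomputable def rho : pullback (pullback.snd f g) (pullback.snd f g) ⟶ pullback f f :=
  pullback.map (pullback.snd f g) (pullback.snd f g) f f (pullback.fst f g) (pullback.fst f g) g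
    pullback.condition.symm pullback.condition.symm

theorem rho_fst : rho f g ≫ pullback.fst f f =
    pullback.fst (pullback.snd f g) (pullback.snd f g) ≫ pullback.fst f g :=
  pullback.lift_fst _ _ _

theorem rho_snd : rho f g ≫ pullback.snd f f =
    pullback.snd (pullback.snd f g) (pullback.snd f g) ≫ pullback.fst f g :=
  pullback.lift_snd _ _ _

theorem isPullback_rho_snd :
    IsPullback (rho f g) (pullback.snd (pullback.snd f g) (pullback.snd f g))
      (pullback.snd f f) (pullback.fst f g) := by
  have sq1 := IsPullback.of_hasPullback (pullback.snd f g) (pullback.snd f g)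
  have sq2 := IsPullback.of_hasPullback f g
  have outer := sq1.paste_horiz sq2
  have right := IsPullback.of_hasPullback f f
  refine IsPullback.of_right ?_ (rho_snd f g) right
  rw [rho_fst, pullback.condition (f := f) (g := g)]
  exact outer

theorem isPullback_rho :
    IsPullback (pullback.snd (pullback.snd f g) (pullback.snd f g) ≫ pullback.snd f g) (rho f g)
      g (pullback.snd f f ≫ f) :=
  ((isPullback_rho_snd f g).paste_vert (IsPullback.of_hasPullback f g)).flip

theorem diagonal_rho : pullback.diagonal (pullback.snd f g) ≫ rho f g =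
    pullback.fst f g ≫ pullback.diagonal f := by
  apply pullback.hom_ext
  · rw [Category.assoc, rho_fst, pullback.diagonal_fst_assoc, Category.assoc,
      pullback.diagonal_fst, Category.comp_id]
  · rw [Category.assoc, rho_snd, pullback.diagonal_snd_assoc, Category.assoc,
      pullback.diagonal_snd, Category.comp_id]

theorem isPullback_diagonal :
    IsPullback (pullback.diagonal (pullback.snd f g)) (pullback.fst f g) (rho f g)
      (pullback.diagonal f) := by
  refine IsPullback.of_right ?_ (diagonal_rho f g) (isPullback_rho f g)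
  rw [pullback.diagonal_snd_assoc, pullback.diagonal_snd_assoc]
  exact (IsPullback.of_hasPullback f g).flip

theorem range_diagonal_eq :
    Set.range (pullback.diagonal (pullback.snd f g)) =
      (rho f g) ⁻¹' Set.range (pullback.diagonal f) :=
  range_fst_of_isPullback (isPullback_diagonal f g)

end

theorem dim_univ (T : Type*) [TopologicalSpace T] :
    topologicalKrullDim ↥(Set.univ : Set T) = topologicalKrullDim T :=
  (Homeomorph.Set.univ T).isHomeomorph.topologicalKrullDim_eq

theorem arith14485 (e s y z e' s' y' z' : WithBot ℕ∞) (d : ℕ)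
    (he : e' = e + (d : WithBot ℕ∞)) (hs : s' = s + (d : WithBot ℕ∞))
    (hy : y' = y + (d : WithBot ℕ∞)) (hz : z' = z + (d : WithBot ℕ∞)) :
    e + s ≤ y + z ↔ e' + s' ≤ y' + z' := by
  subst he hs hy hz
  rw [add_add_add_comm e, add_add_add_comm y]
  have : (d : WithBot ℕ∞) + (d : WithBot ℕ∞) = ((d + d : ℕ) : WithBot ℕ∞) := by push_cast; rfl
  rw [this, add_nat_le_add_nat_iff]

theorem main14485 (k : Type u) [Field k] (X S S' : Scheme.{u})
    (q : S ⟶ Spec (CommRingCat.of k)) (f : X ⟶ S) (g : S' ⟶ S)
    [LocallyOfFiniteType q] [LocallyOfFiniteType f] [IsSeparated f]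
    [LocallyOfFiniteType g]
    (d : ℕ) (hd : ∀ s : S, topologicalKrullDim (g.fiber s) = d)
    (Y Z : Set X) (hYc : IsClosed Y) (hZc : IsClosed Z) :
    (topologicalKrullDim {p : ↥(pullback f f) | pullback.fst f f p ∈ Y ∧
        pullback.snd f f p ∈ Z ∧ p ∉ Set.range (pullback.diagonal f)} +
          topologicalKrullDim S ≤ topologicalKrullDim Y + topologicalKrullDim Z) ↔
      (topologicalKrullDim {p : ↥(pullback (pullback.snd f g) (pullback.snd f g)) |
        pullback.fst (pullback.snd f g) (pullback.snd f g) p ∈ ((pullback.fst f g) ⁻¹' Y) ∧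
        pullback.snd (pullback.snd f g) (pullback.snd f g) p ∈ ((pullback.fst f g) ⁻¹' Z) ∧
        p ∉ Set.range (pullback.diagonal (pullback.snd f g))} + topologicalKrullDim S' ≤
          topologicalKrullDim ((pullback.fst f g) ⁻¹' Y) +
            topologicalKrullDim ((pullback.fst f g) ⁻¹' Z)) := by
  -- the off-diagonal locus upstairs is the preimage of the one downstairs
  have hE : {p : ↥(pullback (pullback.snd f g) (pullback.snd f g)) |
        pullback.fst (pullback.snd f g) (pullback.snd f g) p ∈ ((pullback.fst f g) ⁻¹' Y) ∧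
        pullback.snd (pullback.snd f g) (pullback.snd f g) p ∈ ((pullback.fst f g) ⁻¹' Z) ∧
        p ∉ Set.range (pullback.diagonal (pullback.snd f g))} =
      (rho f g) ⁻¹' {p : ↥(pullback f f) | pullback.fst f f p ∈ Y ∧
        pullback.snd f f p ∈ Z ∧ p ∉ Set.range (pullback.diagonal f)} := by
    ext p
    have h1 : pullback.fst f f (rho f g p) =
        pullback.fst f g (pullback.fst (pullback.snd f g) (pullback.snd f g) p) :=
      congrArg (fun h : pullback (pullback.snd f g) (pullback.snd f g) ⟶ X => h p) (rho_fst f g)
    have h2 : pullback.snd f f (rho f g p) =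
        pullback.fst f g (pullback.snd (pullback.snd f g) (pullback.snd f g) p) :=
      congrArg (fun h : pullback (pullback.snd f g) (pullback.snd f g) ⟶ X => h p) (rho_snd f g)
    have h3 : p ∈ Set.range (pullback.diagonal (pullback.snd f g)) ↔
        rho f g p ∈ Set.range (pullback.diagonal f) := by
      rw [range_diagonal_eq]; rfl
    simp only [Set.mem_setOf_eq, Set.mem_preimage, h1, h2, h3]
  have hEloc : IsLocallyClosed {p : ↥(pullback f f) | pullback.fst f f p ∈ Y ∧
        pullback.snd f f p ∈ Z ∧ p ∉ Set.range (pullback.diagonal f)} := by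
    have h1 : IsLocallyClosed ((pullback.fst f f) ⁻¹' Y : Set ↥(pullback f f)) :=
      (hYc.preimage (pullback.fst f f).continuous).isLocallyClosed
    have h2 : IsLocallyClosed ((pullback.snd f f) ⁻¹' Z : Set ↥(pullback f f)) :=
      (hZc.preimage (pullback.snd f f).continuous).isLocallyClosed
    have h3 : IsLocallyClosed ((Set.range (pullback.diagonal f))ᶜ : Set ↥(pullback f f)) :=
      (pullback.diagonal f).isClosedEmbedding.isClosed_range.isOpen_compl.isLocallyClosed
    exact h1.inter (h2.inter h3)
  have dE := dim_preimage_eq_add k q g d hd (pullback.snd f f ≫ f) _ (rho f g)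
    (isPullback_rho f g) _ hEloc
  rw [← hE] at dE
  have dS := dim_preimage_eq_add k q g d hd (𝟙 S) (𝟙 S') g IsPullback.of_id_fst Set.univ
    isOpen_univ.isLocallyClosed
  rw [Set.preimage_univ, dim_univ, dim_univ] at dS
  have dY := dim_preimage_eq_add k q g d hd f (pullback.snd f g) (pullback.fst f g)
    (IsPullback.of_hasPullback f g).flip Y hYc.isLocallyClosed
  have dZ := dim_preimage_eq_add k q g d hd f (pullback.snd f g) (pullback.fst f g)
    (IsPullback.of_hasPullback f g).flip Z hZc.isLocallyClosed
  exact arith14485 _ _ _ _ _ _ _ _ d dE dS dY dZ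

end Groth.Agent.Lib.Helper24.CharCyc
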